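import Cfsg.Agent.H326.EB.Cells
import Cfsg.Agent.H508.KB.Defs
import Cfsg.Agent.H293.TwExc
import Cfsg.Agent.H631.ExcChev
import Cfsg.Agent.KFacts.RgdSyl
import Cfsg.Agent.H35.Poin

/-!
# S4822, task EX1: the Borel subgroup of `E₇(q)`, `E₈(q)` and the automorphisms (helper326)

`core` : the hypothesis of `extB_of_perm` for `D.group K` without diagram symmetries; `perm_E78` : for `E₇`, `E₈`.
-/

set_option autoImplicit false
set_option linter.unusedSectionVars false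

namespace Cfsg.Agent.H326.EB

open CoxeterSystem Cfsg.Agent.ChevalleyStructure.CoxeterGeom Cfsg.Agent.Tits.Roots Cfsg.Agent.Tits.Core
  Cfsg.Agent.Nodes.Reps Cfsg.Agent.Nodes.BNOf Cfsg.Agent.Nodes.Bruhat
  Cfsg.Agent.Nodes.OppDec Cfsg.Agent.Nodes.RGDChev
  Cfsg.Agent.KFacts.RgdAut Cfsg.Agent.KFacts.RgdDiag Cfsg.Agent.KFacts.RgdRigid
  Cfsg.Agent.KFacts.RgdChevCoord
open Cfsg.Lie Cfsg.Agent.ChevalleyStructure Cfsg.Agent.ChevalleyStructure.Elts
  Cfsg.Agent.ChevalleyStructure.NPerm Cfsg.Agent.ChevalleyStructure.CoxeterGeomTypes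

universe u

/-- the hypothesis of `extB_of_perm` -/
def PermHyp (p : ℕ) (S : Type u) [Group S] : Prop :=
  ∀ (A : Type u) [Group A] [Finite A] (f : S →* A), Function.Injective f → f.range.Normal →
    Subgroup.centralizer (f.range : Set A) = ⊥ → ¬ p ∣ f.range.index →
    ∃ X : Subgroup S, p ∣ X.index ∧ X ≠ ⊤ ∧
      ∃ Y : Subgroup A, Y.comap f = X ∧ f.range ⊔ Y = ⊤ ∧
        ∀ s : S, ∀ y ∈ Y, ∃ x₁ ∈ X, ∃ x₂ ∈ X, ∃ s' : S, f s' = y * f s * y⁻¹ ∧ s' = x₁ * s * x₂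

/-- transport along an isomorphism -/
theorem transport {p : ℕ} {S : Type*} {S₀ : Type*} [Group S] [Group S₀] (e : S ≃* S₀) {A : Type u} [Group A] (f : S →* A)
    (h : ∃ X : Subgroup S₀, p ∣ X.index ∧ X ≠ ⊤ ∧
      ∃ Y : Subgroup A, Y.comap (f.comp e.symm.toMonoidHom) = X ∧ (f.comp e.symm.toMonoidHom).range ⊔ Y = ⊤ ∧
        ∀ s : S₀, ∀ y ∈ Y, ∃ x₁ ∈ X, ∃ x₂ ∈ X, ∃ s' : S₀, f.comp e.symm.toMonoidHom s' =
          y * f.comp e.symm.toMonoidHom s * y⁻¹ ∧ s' = x₁ * s * x₂) :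
    ∃ X : Subgroup S, p ∣ X.index ∧ X ≠ ⊤ ∧
      ∃ Y : Subgroup A, Y.comap f = X ∧ f.range ⊔ Y = ⊤ ∧
        ∀ s : S, ∀ y ∈ Y, ∃ x₁ ∈ X, ∃ x₂ ∈ X, ∃ s' : S, f s' = y * f s * y⁻¹ ∧ s' = x₁ * s * x₂ := by
  obtain ⟨X, h1, h2, Y, h3, h4, h5⟩ := h
  have hr : (f.comp e.symm.toMonoidHom).range = f.range := by
    ext a
    constructor
    · rintro ⟨s, rfl⟩
      exact ⟨e.symm s, rfl⟩
    · rintro ⟨s, rfl⟩
      exact ⟨e s, by show f (e.symm (e s)) = f s; rw [MulEquiv.symm_apply_apply]⟩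
  refine ⟨X.comap e.toMonoidHom, ?_, ?_, Y, ?_, ?_, ?_⟩
  · rw [Subgroup.index_comap_of_surjective X e.surjective]
    exact h1
  · intro h6
    apply h2
    rw [eq_top_iff]
    intro x _
    have h7 : e.symm x ∈ X.comap e.toMonoidHom := by rw [h6]; exact Subgroup.mem_top _
    have h8 : e (e.symm x) ∈ X := h7
    rwa [MulEquiv.apply_symm_apply] at h8
  · ext s
    rw [← h3]
    show f s ∈ Y ↔ f (e.symm (e s)) ∈ Y
    rw [MulEquiv.symm_apply_apply]
  · rw [← hr]; exact h4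
  · intro s y hy
    obtain ⟨x₁, hx₁, x₂, hx₂, s', h6, h7⟩ := h5 (e s) y hy
    refine ⟨e.symm x₁, ?_, e.symm x₂, ?_, e.symm s', ?_, ?_⟩
    · show e (e.symm x₁) ∈ X
      rwa [MulEquiv.apply_symm_apply]
    · show e (e.symm x₂) ∈ X
      rwa [MulEquiv.apply_symm_apply]
    · have h8 : f (e.symm s') = y * f (e.symm (e s)) * y⁻¹ := h6
      rwa [MulEquiv.symm_apply_apply] at h8
    · rw [h7, map_mul, map_mul, MulEquiv.symm_apply_apply]

section

variable {D : ChevalleyDatum} {l : ℕ} {M : CoxeterMatrix (Fin l)} (hp : IsType D l M) {K : Type} [Field K] [Fintype K]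
  {r : ℕ} [hr : Fact r.Prime] [CharP K r]

include hp

theorem core (hone : ∀ σ : Equiv.Perm (Fin l), (∀ i j, M (σ i) (σ j) = M i j) → σ = 1)
    {p : ℕ} [hpp : Fact p.Prime] (hrp : r ≠ p) (hq : ¬ p ∣ Fintype.card K - 1) (hpS : p ∣ Nat.card ↥(D.group K))
    {A : Type u} [Group A] [Finite A] (f : ↥(D.group K) →* A) (hf : Function.Injective f) (hn : f.range.Normal) :
    ∃ X : Subgroup ↥(D.group K), p ∣ X.index ∧ X ≠ ⊤ ∧
      ∃ Y : Subgroup A, Y.comap f = X ∧ f.range ⊔ Y = ⊤ ∧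
        ∀ s : ↥(D.group K), ∀ y ∈ Y, ∃ x₁ ∈ X, ∃ x₂ ∈ X, ∃ s' : ↥(D.group K), f s' = y * f s * y⁻¹ ∧
          s' = x₁ * s * x₂ := by
  let cs : CoxeterSystem M M.Group := M.toCoxeterSystem
  have hW : Finite M.Group := finite_W hp cs
  have R := rgd (K := K) hp cs r
  have hG1 := G1_eq_top (K := K) hp cs
  have hG := GG_eq_top (T := TT D K) hG1
  have hB : Subgroup.normalizer (RGD.Sup (XX D l K) (RGD.Pos cs hp.isCartan) : Set ↥(D.group K)) =
      RGD.B cs hp.isCartan (TT D K) (XX D l K) := normalizer_U' R hG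
  have hUi : ¬ r ∣ (RGD.Sup (XX D l K) (RGD.Pos cs hp.isCartan)).index := by
    have := KFacts.RgdSyl.not_dvd_relIndex R
    rwa [hG, Subgroup.relIndex_top_right] at this
  obtain ⟨Y, h1, h2, h3⟩ := exists_sup (r := r) f hf hn _ R.isPGroup_Upos hUi (fun α hα s => by
    rw [hB]
    exact cell_fix R hG1 hone hα s)
  have hidx : p ∣ (RGD.B cs hp.isCartan (TT D K) (XX D l K)).index := by
    have h4 := (RGD.B cs hp.isCartan (TT D K) (XX D l K)).card_mul_index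
    rw [← h4] at hpS
    refine (hpp.out.dvd_mul.1 hpS).resolve_left ?_
    rw [H35.Poin.card_B' R]
    intro h5
    rcases hpp.out.dvd_mul.1 h5 with h6 | h6
    · obtain ⟨k, hk⟩ := IsPGroup.iff_card.1 R.isPGroup_Upos
      rw [hk] at h6
      exact hrp ((Nat.prime_dvd_prime_iff_eq hpp.out hr.out).1 (hpp.out.dvd_of_dvd_pow h6)).symm
    · obtain ⟨⟨t, ht⟩, hto⟩ := exists_prime_orderOf_dvd_card' p h6
      rw [Subgroup.orderOf_mk] at hto
      apply hq
      rw [← hto]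
      exact orderOf_dvd_of_pow_eq_one (H631.ExcChev.pow_card_sub_one hp K ht)
  refine ⟨_, ?_, ?_, Y, h1, h2, h3⟩
  · rw [hB]; exact hidx
  · rw [hB]
    intro h4
    rw [h4, Subgroup.index_top] at hidx
    exact hpp.out.one_lt.ne' (Nat.dvd_one.1 hidx)

end

/-- **`E₇(q)`, `E₈(q)`** -/
theorem perm_E78 {S : Type u} [Group S] [Finite S] {p : ℕ} [Fact p.Prime] {r : ℕ} [Fact r.Prime] {F : Type} [Field F]
    [Fintype F] [CharP F r] (hrp : r ≠ p) (hq : ¬ p ∣ Fintype.card F - 1)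
    (hpS : p ∣ Nat.card S) (e : Nonempty (S ≃* Lie.chevE7.group F) ∨ Nonempty (S ≃* Lie.chevE8.group F)) :
    PermHyp p S := by
  intro A _ _ f hf hn _ _
  rcases e with ⟨⟨e⟩⟩ | ⟨⟨e⟩⟩
  all_goals
    have hr : (f.comp e.symm.toMonoidHom).range = f.range := by
      ext a
      constructor
      · rintro ⟨s, rfl⟩
        exact ⟨e.symm s, rfl⟩
      · rintro ⟨s, rfl⟩
        exact ⟨e s, by show f (e.symm (e s)) = f s; rw [MulEquiv.symm_apply_apply]⟩
    rw [Nat.card_congr e.toEquiv] at hpS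
  · exact transport e f (core H293.TwFix.isType_E7 H293.TwFix.sym_E7 hrp hq hpS _ (hf.comp e.symm.injective)
      (by rw [hr]; exact hn))
  · exact transport e f (core H293.TwFix.isType_E8 H293.TwFix.sym_E8 hrp hq hpS _ (hf.comp e.symm.injective)
      (by rw [hr]; exact hn))

/-- **EX1**, with `extB_of_perm` as a hypothesis -/
theorem extB_E78_of {S : Type u} [Group S] [Finite S] {p : ℕ} [Fact p.Prime] {M : Ideal AlgInt}
    (hE : PermHyp p S → H508.KB.ExtB p M S) {r : ℕ} [Fact r.Prime] {F : Type} [Field F]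
    [Fintype F] [CharP F r] (hrp : r ≠ p) (hq : ¬ p ∣ Fintype.card F - 1)
    (hpS : p ∣ Nat.card S) (e : Nonempty (S ≃* Lie.chevE7.group F) ∨ Nonempty (S ≃* Lie.chevE8.group F)) :
    H508.KB.ExtB p M S := hE (perm_E78 hrp hq hpS e)

end Cfsg.Agent.H326.EB
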