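import Mathlib
import Cfsg.Agent.KFacts.RgdRigid
import Cfsg.Agent.Nodes.LeviDec

/-!
# Automorphisms fixing `U` fix the double cosets of `B` (helper326, S4822)

* `cell_fix` : in a group with a root group datum without diagram symmetries an automorphism which fixes `U` maps every
  element `s` into `B s B`;
* `exists_sup` : the Frattini argument for a group `A` with a normal subgroup `f.range`, and its double cosets.
-/

set_option autoImplicit false
set_option linter.unusedSectionVars false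

namespace Cfsg.Agent.H326.EB

open CoxeterSystem Cfsg.Agent.ChevalleyStructure.CoxeterGeom Cfsg.Agent.Tits.Roots Cfsg.Agent.Tits.Core
  Cfsg.Agent.Tits.Exchange Cfsg.Agent.Nodes.Reps Cfsg.Agent.Nodes.BNOf Cfsg.Agent.Nodes.StabComb
  Cfsg.Agent.Nodes.Bruhat Cfsg.Agent.Nodes.OppDec Cfsg.Agent.Nodes.LeviDec Cfsg.Agent.Nodes.NormalForm
  Cfsg.Agent.KFacts.RgdOpp Cfsg.Agent.KFacts.RgdAut Cfsg.Agent.KFacts.RgdDiag Cfsg.Agent.KFacts.RgdRigid

section rgd

variable {I W Y : Type*} [Fintype I] [DecidableEq I] [Group W] [Group Y] {M : CoxeterMatrix I}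
  {cs : CoxeterSystem M W} {A : I → I → ℤ} {h : IsCartan M A} {p : ℕ} {T : Subgroup Y} {n : I → Y}
  {X : (I → ℤ) → Subgroup Y}

theorem hat_one (hσ : ∀ i j, M ((1 : Equiv.Perm I) i) ((1 : Equiv.Perm I) j) = M i j) (w : W) :
    hat cs 1 hσ w = w := by
  have h1 : hat cs 1 hσ = MonoidHom.id W := by
    apply cs.ext_simple
    intro i
    rw [hat_simple]
    rfl
  rw [h1]
  rfl

/-- **An automorphism fixing `U` fixes the double cosets of `B`.** -/
theorem cell_fix (R : RGD cs h p T n X) [Finite W] (hG1 : RGD.Sup X {x | IsRoot cs h x} = ⊤)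
    (hone : ∀ σ : Equiv.Perm I, (∀ i j, M (σ i) (σ j) = M i j) → σ = 1)
    {α : MulAut Y} (hα : Fix α (RGD.Sup X (RGD.Pos cs h))) (s : Y) :
    ∃ x₁ ∈ RGD.B cs h T X, ∃ x₂ ∈ RGD.B cs h T X, α s = x₁ * s * x₂ := by
  have hG := GG_eq_top (T := T) hG1
  obtain ⟨u, hu, hU, hB, hUN, -, hT⟩ := exists_frame R hG hα
  obtain ⟨σ, D⟩ := exists_diag R hG hU hUN
  have hσ := D.matrix R
  obtain rfl := hone σ hσ
  have hs : s ∈ PJ cs h T X Set.univ := LJ_le_PJ (by rw [LJ_univ, hG]; exact Subgroup.mem_top s)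
  obtain ⟨w, -, b₁, hb₁, k, hk, b₂, hb₂, rfl⟩ := (mem_PJ_iff_cell R).1 hs
  have hk' := D.rp' (R := R) hσ hk
  rw [hat_one] at hk'
  have ht : k⁻¹ * (MulAut.conj u * α) k ∈ T := hk.unique hk'
  obtain ⟨t, rfl⟩ : ∃ t, t = k⁻¹ * (MulAut.conj u * α) k := ⟨_, rfl⟩
  have huB : u ∈ RGD.B cs h T X := RGD.U_le_B hu
  refine ⟨u⁻¹ * ((MulAut.conj u * α) b₁ * b₁⁻¹), mul_mem (inv_mem huB) (mul_mem ((hB _).2 hb₁) (inv_mem hb₁)),
    b₂⁻¹ * (k⁻¹ * (MulAut.conj u * α) k) * (MulAut.conj u * α) b₂ * u,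
    mul_mem (mul_mem (mul_mem (inv_mem hb₂) (RGD.T_le_B ht)) ((hB _).2 hb₂)) huB, ?_⟩
  have e : ∀ x, α x = u⁻¹ * (MulAut.conj u * α) x * u := by
    intro x
    rw [MulAut.mul_apply, MulAut.conj_apply]
    group
  rw [e (b₁ * k * b₂), map_mul, map_mul]
  group

end rgd

section frattini

open Subgroup
open scoped Pointwise

universe u v

variable {S : Type v} [Group S] [Finite S] {A : Type u} [Group A] [Finite A]

/-- the automorphism of `S` induced by an element of `A` -/
theorem exists_aut (f : S →* A) (hf : Function.Injective f) (hn : f.range.Normal) (a : A) :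
    ∃ α : MulAut S, ∀ s, f (α s) = a * f s * a⁻¹ := by
  let e : S ≃* ↥f.range := MonoidHom.ofInjective hf
  have he : ∀ s, ((e s : ↥f.range) : A) = f s := fun s => rfl
  refine ⟨(e.trans (MulAut.conjNormal a : MulAut ↥f.range)).trans e.symm, fun s => ?_⟩
  have h1 : ∀ z : ↥f.range, f (e.symm z) = z := by
    intro z
    rw [← he, MulEquiv.apply_symm_apply]
  show f (e.symm (MulAut.conjNormal a (e s))) = _
  rw [h1, MulAut.conjNormal_apply, he]

theorem exists_sup {r : ℕ} [Fact r.Prime] (f : S →* A) (hf : Function.Injective f) (hn : f.range.Normal)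
    (U : Subgroup S) (hU : IsPGroup r U) (hUi : ¬ r ∣ U.index)
    (hcell : ∀ α : MulAut S, (∀ x, α x ∈ U ↔ x ∈ U) → ∀ s, ∃ x₁ ∈ normalizer (U : Set S),
      ∃ x₂ ∈ normalizer (U : Set S), α s = x₁ * s * x₂) :
    ∃ Y : Subgroup A, Y.comap f = normalizer (U : Set S) ∧ f.range ⊔ Y = ⊤ ∧
      ∀ s : S, ∀ y ∈ Y, ∃ x₁ ∈ normalizer (U : Set S), ∃ x₂ ∈ normalizer (U : Set S), ∃ s' : S,
        f s' = y * f s * y⁻¹ ∧ s' = x₁ * s * x₂ := by
  have hmem : ∀ {x : S}, f x ∈ U.map f ↔ x ∈ U := fun {x} => mem_map_iff_mem hf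
  refine ⟨normalizer ((U.map f : Subgroup A) : Set A), ?_, ?_, ?_⟩
  · ext x
    rw [mem_comap, mem_normalizer_iff, mem_normalizer_iff]
    constructor
    · intro h y
      have h1 := h (f y)
      rw [← map_inv, ← map_mul, ← map_mul, hmem, hmem] at h1
      exact h1
    · intro h z
      constructor
      · rintro ⟨y, hy, rfl⟩
        exact ⟨x * y * x⁻¹, (h y).1 hy, by rw [map_mul, map_mul, map_inv]⟩
      · rintro ⟨y, hy, hyz⟩
        refine ⟨x⁻¹ * y * x, (h _).2 ?_, ?_⟩
        · have e : x * (x⁻¹ * y * x) * x⁻¹ = y := by group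
          rw [e]; exact hy
        · rw [map_mul, map_mul, map_inv, hyz]
          group
  · rw [eq_top_iff]
    intro a _
    obtain ⟨α, hα⟩ := exists_aut f hf hn a
    have hU' : IsPGroup r ↥(U.map (α : S →* S)) := hU.map _
    have hi : ¬ r ∣ (U.map (α : S →* S)).index := by
      rw [Subgroup.index_map_equiv]
      exact hUi
    obtain ⟨s, hs⟩ := MulAction.exists_smul_eq S (hU'.toSylow hi) (hU.toSylow hUi)
    have hs' : MulAut.conj s • (U.map (α : S →* S)) = U := congrArg (fun P : Sylow r S => (P : Subgroup S)) hs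
    have key : ∀ x, s * x * s⁻¹ ∈ U ↔ x ∈ U.map (α : S →* S) := by
      intro x
      have h1 : MulAut.conj s • x ∈ MulAut.conj s • (U.map (α : S →* S)) ↔ x ∈ U.map (α : S →* S) :=
        Subgroup.smul_mem_pointwise_smul_iff
      rw [hs'] at h1
      exact h1
    have h2 : f s * a ∈ normalizer ((U.map f : Subgroup A) : Set A) := by
      rw [mem_normalizer_iff]
      intro z
      constructor
      · rintro ⟨y, hy, rfl⟩
        refine ⟨s * α y * s⁻¹, (key _).2 ⟨y, hy, rfl⟩, ?_⟩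
        rw [map_mul, map_mul, map_inv, hα]
        group
      · rintro ⟨v, hv, hvz⟩
        obtain ⟨y, hy, hyv⟩ := (key (s⁻¹ * v * s)).1 (by
          have e : s * (s⁻¹ * v * s) * s⁻¹ = v := by group
          rw [e]; exact hv)
        refine ⟨y, hy, ?_⟩
        have h3 : f (α y) = (f s)⁻¹ * f v * f s := by
          have : α y = s⁻¹ * v * s := hyv
          rw [this, map_mul, map_mul, map_inv]
        rw [hα, hvz] at h3
        calc f y = a⁻¹ * (a * f y * a⁻¹) * a := by group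
          _ = z := by rw [h3]; group
    have h3 : a = f s⁻¹ * (f s * a) := by rw [map_inv]; group
    rw [h3]
    exact mul_mem ((le_sup_left : f.range ≤ _) ⟨s⁻¹, rfl⟩) ((le_sup_right : normalizer _ ≤ _) h2)
  · intro s y hy
    obtain ⟨α, hα⟩ := exists_aut f hf hn y
    rw [mem_normalizer_iff] at hy
    have hfix : ∀ x, α x ∈ U ↔ x ∈ U := by
      intro x
      rw [← hmem, hα, ← hmem (x := x)]
      exact (hy (f x)).symm
    obtain ⟨x₁, h1, x₂, h2, e⟩ := hcell α hfix s
    exact ⟨x₁, h1, x₂, h2, α s, hα s, e⟩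

end frattini

end Cfsg.Agent.H326.EB
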